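import Groth.Agent.CohBCLib.Exchange
import Groth.Agent.FormalLib.ModPow
import Groth.Agent.QuotSchLib.HilbQuot
import Groth.Agent.QCohLib.SerreCrit

/-!
# `F ⊗ A/I^k` is `F / I^k F`
-/

set_option autoImplicit false
set_option backward.isDefEq.respectTransparency false
set_option backward.isDefEq.respectTransparency.types false
set_option linter.style.haveILetI false
set_option linter.unusedSectionVars false
universe u

open CategoryTheory CategoryTheory.Limits AlgebraicGeometry TopologicalSpace Opposite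
open Formal (smulMod modPow modPowπ smulFamily)
open scoped TensorProduct

noncomputable section

namespace ModPowTensLib

/-- Two epimorphisms with the same kernels on affine opens have isomorphic targets. -/
theorem exists_iso_of_ker {X : Scheme.{u}} {M P Q : X.Modules} (q : M ⟶ P) (p : M ⟶ Q) [Epi q] [Epi p]
    (h : ∀ V : X.affineOpens, ∀ s : Γ(M, V.1), q.app V.1 s = 0 ↔ p.app V.1 s = 0) :
    ∃ φ : P ≅ Q, q ≫ φ.hom = p := by
  have z : ∀ {P Q : X.Modules} (q : M ⟶ P) (p : M ⟶ Q),
      (∀ V : X.affineOpens, ∀ s : Γ(M, V.1), q.app V.1 s = 0 → p.app V.1 s = 0) →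
      kernel.ι q ≫ p = 0 := fun q p h => QuotSchLib.hom_zero_of_affines _ fun V t =>
    h V _ ((ConcreteCategory.congr_hom (congrArg (fun φ => Scheme.Modules.Hom.app φ V.1)
      (kernel.condition q)) t).trans rfl)
  have hq := Abelian.epiIsCokernelOfKernel _ (kernelIsKernel q)
  have hp := Abelian.epiIsCokernelOfKernel _ (kernelIsKernel p)
  obtain ⟨a, ha⟩ := CokernelCofork.IsColimit.desc' hq p (z q p fun V s => (h V s).1)
  obtain ⟨b, hb⟩ := CokernelCofork.IsColimit.desc' hp q (z p q fun V s => (h V s).2)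
  have ha' : q ≫ a = p := ha
  have hb' : p ≫ b = q := hb
  exact ⟨⟨a, b, by rw [← cancel_epi q, ← Category.assoc, ha', hb', Category.comp_id],
    by rw [← cancel_epi p, ← Category.assoc, hb', ha', Category.comp_id]⟩, ha'⟩

variable (A : Type u) [CommRing A] (X : Scheme.{u}) [X.Over (Spec (CommRingCat.of A))]

theorem rhoA_eq (V : X.Opens) (a : A) :
    FormalLib.rhoA A V a = CohBCLib.secA (X ↘ Spec (CommRingCat.of A)) V a :=
  CohBCLib.resTop_toGlobal (X ↘ Spec (CommRingCat.of A)) V a

/-- Plain sections and `Sec`, linearly. -/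
def secEquiv (F : X.Modules) (V : X.Opens) :
    FormalLib.Sec A F V ≃ₗ[A] ((RpushLib.secFun V (CohBCLib.secA (X ↘ Spec (CommRingCat.of A)) V)).obj F : Type u) :=
  { (FormalLib.toSec A F V).symm with
    map_smul' := fun a x => congrArg (fun r : Γ(X, V) => r • (show Γ(F, V) from x)) (rhoA_eq A X V a) }

/-- `Γ(F, V) ⊗ M → Γ(F ⊗ M, V)` on the modules of sections. -/
def secT (F : X.Modules) (V : X.Opens) (M : ModuleCat.{u} A) :
    FormalLib.Sec A F V ⊗[A] (M : Type u) →ₗ[A]
      FormalLib.Sec A ((CohBCLib.tA (X ↘ Spec (CommRingCat.of A)) F).obj M) V :=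
  (secEquiv A X _ V).symm.toLinearMap ∘ₗ CohBCLib.secTA (X ↘ Spec (CommRingCat.of A)) F V M ∘ₗ
    (TensorProduct.congr (secEquiv A X F V) (LinearEquiv.refl A M)).toLinearMap

theorem secT_bijective (F : X.Modules) [Coh.IsQCoh F] {V : X.Opens} (hV : IsAffineOpen V) (M : ModuleCat.{u} A) :
    Function.Bijective (secT A X F V M) :=
  (secEquiv A X _ V).symm.bijective.comp ((CohBCLib.secTA_bijective (X ↘ Spec (CommRingCat.of A)) F hV M).comp
    (TensorProduct.congr (secEquiv A X F V) (LinearEquiv.refl A M)).bijective)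

theorem secT_natural (F : X.Modules) (V : X.Opens) {M N : ModuleCat.{u} A} (g : M ⟶ N)
    (t : FormalLib.Sec A F V ⊗[A] (M : Type u)) :
    FormalLib.secMap ((CohBCLib.tA (X ↘ Spec (CommRingCat.of A)) F).map g) V (secT A X F V M t) =
      secT A X F V N (g.hom.lTensor _ t) := by
  induction t using TensorProduct.induction_on with
  | zero => simp only [map_zero]
  | tmul s m => exact CohBCLib.secTA_natural (X ↘ Spec (CommRingCat.of A)) F V g (secEquiv A X F V s) m
  | add x y hx hy => simp only [map_add, hx, hy]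

theorem ker_map_mkQ (F : X.Modules) [Coh.IsQCoh F] (J : Ideal A) {V : X.Opens} (hV : IsAffineOpen V) :
    LinearMap.ker (FormalLib.secMap (A := A) ((CohBCLib.tA (X ↘ Spec (CommRingCat.of A)) F).map
      (ModuleCat.ofHom (Submodule.mkQ J) : ModuleCat.of A A ⟶ ModuleCat.of A (A ⧸ J))) V) = J • ⊤ := by
  have hT := secT_bijective A X F hV (ModuleCat.of A A)
  apply le_antisymm
  · intro x hx
    obtain ⟨t, rfl⟩ := hT.2 x
    rw [LinearMap.mem_ker, secT_natural] at hx
    have h0 : (Submodule.mkQ J).lTensor (FormalLib.Sec A F V) t = 0 :=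
      (secT_bijective A X F hV (ModuleCat.of A (A ⧸ J))).1 (hx.trans (map_zero _).symm)
    obtain ⟨w, hw⟩ := (lTensor_exact (FormalLib.Sec A F V) (LinearMap.exact_subtype_mkQ J)
      (Submodule.mkQ_surjective J) t).1 h0
    rw [← hw]
    clear hw hx h0
    induction w using TensorProduct.induction_on with
    | zero => simp only [map_zero]; exact zero_mem _
    | tmul s a =>
      rw [LinearMap.lTensor_tmul, Submodule.subtype_apply,
        show ((a : A) : ↑(ModuleCat.of A A)) = (a : A) • (1 : A) from (mul_one _).symm,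
        TensorProduct.tmul_smul, map_smul]
      exact Submodule.smul_mem_smul a.2 Submodule.mem_top
    | add x y hx hy => simp only [map_add]; exact add_mem hx hy
  · refine Submodule.smul_le.2 fun a ha x _ => ?_
    obtain ⟨t, rfl⟩ := hT.2 x
    rw [LinearMap.mem_ker, map_smul, secT_natural, ← map_smul]
    refine (congrArg _ ?_).trans (map_zero _)
    induction t using TensorProduct.induction_on with
    | zero => simp
    | tmul s b =>
      show a • (s ⊗ₜ[A] Submodule.mkQ J b) = 0
      rw [← TensorProduct.tmul_smul, ← map_smul]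
      have : Submodule.mkQ J (a • b) = 0 :=
        (Submodule.Quotient.mk_eq_zero J).2 (Ideal.mul_mem_right b J ha)
      exact (congrArg (s ⊗ₜ[A] ·) this).trans (TensorProduct.tmul_zero _ _)
    | add x y hx hy => simp only [map_add, smul_add, hx Submodule.mem_top, hy Submodule.mem_top, add_zero]

/-- `F ⊗ A/I^k` is `F / I^k F`. -/
theorem exists_factor [IsNoetherianRing A] (F : X.Modules) [Coh.IsQCoh F] (I : Ideal A) (k : ℕ) :
    ∃ φ : (CohBCLib.tA (X ↘ Spec (CommRingCat.of A)) F).obj (ModuleCat.of A (A ⧸ I ^ k)) ≅ modPow I k F,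
      (CohBCLib.tA (X ↘ Spec (CommRingCat.of A)) F).map (ModuleCat.ofHom (Submodule.mkQ (I ^ k))) ≫ φ.hom =
        (CohBCLib.tAUnitIso (X ↘ Spec (CommRingCat.of A)) F).hom ≫ modPowπ I k F := by
  let f := X ↘ Spec (CommRingCat.of A)
  haveI := CohBCLib.isQCoh_tA f F (ModuleCat.of A A)
  haveI := CohBCLib.isQCoh_tA f F (ModuleCat.of A (A ⧸ I ^ k))
  haveI := FormalLib.isQCoh_modPow F I k
  haveI : Epi (modPowπ I k F) := coequalizer.π_epi
  let g : ModuleCat.of A A ⟶ ModuleCat.of A (A ⧸ I ^ k) := ModuleCat.ofHom (Submodule.mkQ (I ^ k))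
  haveI : Epi ((CohBCLib.tA f F).map g) := QCohLib.epi_of_surjective_on_affines _ fun V s p hp => by
    obtain ⟨V', hV', hp', hle⟩ := Opens.isBasis_iff_nbhd.mp X.isBasis_affineOpens hp
    obtain ⟨t, ht⟩ := (secT_bijective A X F hV' (ModuleCat.of A (A ⧸ I ^ k))).2
      (FormalLib.toSec A _ V' (((CohBCLib.tA f F).obj (ModuleCat.of A (A ⧸ I ^ k))).presheaf.map (homOfLE hle).op s))
    obtain ⟨t', ht'⟩ := LinearMap.lTensor_surjective (FormalLib.Sec A F V') (Submodule.mkQ_surjective (I ^ k)) t
    refine ⟨V', hle, hp', (FormalLib.toSec A _ V').symm (secT A X F V' (ModuleCat.of A A) t'), ?_⟩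
    have h := secT_natural A X F V' g t'
    rw [show g.hom.lTensor _ t' = t from ht'] at h
    exact h.trans ht
  refine exists_iso_of_ker _ _ fun V s => ?_
  let x := FormalLib.toSec A _ V.1 s
  let u := CohBCLib.tAUnitIso f F
  have h1 : x ∈ LinearMap.ker (FormalLib.secMap (A := A) ((CohBCLib.tA f F).map g) V.1) ↔ x ∈ (I ^ k • ⊤ : Submodule A _) := by
    rw [ker_map_mkQ A X F (I ^ k) V.2]
  have h2 : FormalLib.secMap u.hom V.1 x ∈ LinearMap.ker (FormalLib.secMap (A := A) (modPowπ I k F) V.1) ↔
      x ∈ (I ^ k • ⊤ : Submodule A _) := by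
    rw [FormalLib.ker_secMap_modPowπ F I k V.2]
    constructor
    · intro hx
      have hm := Submodule.mem_map_of_mem (f := FormalLib.secMap (A := A) u.inv V.1) hx
      rw [Submodule.map_smul''] at hm
      have e : FormalLib.secMap (A := A) u.inv V.1 (FormalLib.secMap u.hom V.1 x) = x := by
        rw [FormalLib.secMap_comp, u.hom_inv_id]
        rfl
      rw [e] at hm
      exact Submodule.smul_mono le_rfl le_top hm
    · intro hx
      have hm := Submodule.mem_map_of_mem (f := FormalLib.secMap (A := A) u.hom V.1) hx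
      rw [Submodule.map_smul''] at hm
      exact Submodule.smul_mono le_rfl le_top hm
  exact h1.trans h2.symm

end ModPowTensLib

end
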